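import Groth.Agent.BlowUpLib.Glue
import Groth.Agent.QCoh.Tilde
import Groth.Agent.QCoh.Qcqs
import Groth.Agent.Algz7.Completion
import Groth.Agent.ZClosLib.CohDescent

/-! Strict transforms of coherent modules are coherent. -/

set_option autoImplicit false
set_option linter.style.haveILetI false
set_option linter.unusedSectionVars false
set_option backward.isDefEq.respectTransparency false

universe u

open CategoryTheory CategoryTheory.Limits AlgebraicGeometry Opposite TopologicalSpace

namespace Groth.Agent.StrictTransCoh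

variable {X : Scheme.{u}}

theorem kernel_sections {M N : X.Modules} (π : M ⟶ N) (U : X.Opens) :
    Function.Injective ((kernel.ι π).app U) ∧
      ∀ m : Γ(M, U), π.app U m = 0 → ∃ w, (kernel.ι π).app U w = m := by
  let G : X.Modules ⥤ Ab.{u} := Scheme.Modules.toPresheaf X ⋙ (CategoryTheory.evaluation _ _).obj (op U)
  let S := ShortComplex.mk (kernel.ι π) π (kernel.condition π)
  have hS : S.Exact := S.exact_of_f_is_kernel (kernelIsKernel π)
  haveI : G.PreservesZeroMorphisms := ⟨fun _ _ => rfl⟩
  haveI : Mono S.f := inferInstanceAs (Mono (kernel.ι π))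
  haveI : PreservesLimits (Scheme.Modules.toPresheaf X) := inferInstance
  haveI : ∀ (J : Type) [SmallCategory J] [FinCategory J], PreservesLimitsOfShape J
      ((CategoryTheory.evaluation (Opens ↥X)ᵒᵖ Ab.{u}).obj (op U)) := fun J _ _ => evaluation_preservesLimitsOfShape _
  haveI : PreservesLimitsOfShape WalkingParallelPair G := comp_preservesLimitsOfShape _ _
  haveI : PreservesLimitsOfShape WalkingCospan G := comp_preservesLimitsOfShape _ _
  haveI : Mono (G.map (kernel.ι π)) := inferInstance
  refine ⟨(AddCommGrpCat.mono_iff_injective _).1 ‹_›, ?_⟩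
  exact (ShortComplex.ab_exact_iff _).1 (hS.map_of_mono_of_preservesKernel G inferInstance inferInstance)

/-- A submodule of a quasi-coherent module given on affines by annihilation by powers of an ideal. -/
theorem isQCoh_kernel_of_torsion [IsLocallyNoetherian X] (E : X.IdealSheafData) {M N : X.Modules} (hM : Coh.IsQCoh M)
    (π : M ⟶ N)
    (h : ∀ (V : X.affineOpens) (m : Γ(M, V.1)), π.app V.1 m = 0 ↔ BlowUp.KilledByPowerNear E M V m) :
    Coh.IsQCoh (kernel π) := by
  refine QCoh.isQCoh_of_sections ?_ ?_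
  · intro U hU f s
    let V : X.affineOpens := ⟨U, hU⟩
    let Vf : X.affineOpens := ⟨X.basicOpen f, hU.basicOpen f⟩
    let z := (kernel.ι π).app (X.basicOpen f) s
    have hz : π.app (X.basicOpen f) z = 0 :=
      congrArg (fun φ => Scheme.Modules.Hom.app φ (X.basicOpen f) s) (kernel.condition π)
    obtain ⟨k, hk⟩ := (h Vf z).1 hz
    obtain ⟨N₀, t, ht⟩ := QCoh.exists_pow_smul_eq_map hM hU f z
    haveI : IsNoetherianRing Γ(X, U) := IsLocallyNoetherian.component_noetherian V
    obtain ⟨gens, hgens⟩ := ((E ^ k).ideal V).fg_of_isNoetherianRing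
    let res : Γ(X, U) →+* Γ(X, X.basicOpen f) := (X.presheaf.map (homOfLE (X.basicOpen_le f)).op).hom
    have hmem : ∀ a ∈ (E ^ k).ideal V, res a ∈ (E ^ k).ideal Vf := fun a ha => by
      show res a ∈ (E ^ k).ideal (X.affineBasicOpen (U := V) f)
      rw [← (E ^ k).map_ideal_basicOpen V f]
      exact Ideal.mem_map_of_mem _ ha
    have hg : ∀ a : gens, ∃ m : ℕ, f ^ m • ((a : Γ(X, U)) • t) = 0 := fun a => by
      refine QCoh.exists_pow_smul_eq_zero hM hU f _ ?_
      rw [QCoh.map_smul', ht]
      show res (a : Γ(X, U)) • res f ^ N₀ • z = 0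
      rw [smul_comm, hk _ (hmem _ (hgens ▸ Ideal.subset_span a.2)), smul_zero]
    choose m hm using hg
    let M₀ := Finset.univ.sup m
    have hkill : ∀ a ∈ (E ^ k).ideal V, a • (f ^ M₀ • t) = 0 := by
      intro a ha
      rw [← hgens] at ha
      induction ha using Submodule.span_induction with
      | mem a ha =>
        obtain ⟨d, hd⟩ := Nat.exists_eq_add_of_le (Finset.le_sup (f := m) (Finset.mem_univ (⟨a, ha⟩ : gens)))
        show a • (f ^ M₀ • t) = 0
        rw [show M₀ = m ⟨a, ha⟩ + d from hd, smul_comm, pow_add, mul_comm, mul_smul, hm ⟨a, ha⟩, smul_zero]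
      | zero => exact zero_smul _ _
      | add a b _ _ ha hb => rw [add_smul, ha, hb, add_zero]
      | smul c a _ ha => rw [smul_eq_mul, mul_smul, ha, smul_zero]
    obtain ⟨w, hw⟩ := (kernel_sections π U).2 _ ((h V (f ^ M₀ • t)).2 ⟨k, hkill⟩)
    refine ⟨M₀ + N₀, w, (kernel_sections π _).1 ?_⟩
    have hnat : (kernel.ι π).app (X.basicOpen f) ((kernel π).presheaf.map (homOfLE (X.basicOpen_le f)).op w) =
        M.presheaf.map (homOfLE (X.basicOpen_le f)).op ((kernel.ι π).app U w) :=
      congr($((kernel.ι π).mapPresheaf.naturality (homOfLE (X.basicOpen_le f)).op) w)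
    rw [hnat, hw, Scheme.Modules.Hom.app_smul, QCoh.map_smul', ht, map_pow, ← mul_smul, ← pow_add]
  · intro U hU f t ht
    have h1 : M.presheaf.map (homOfLE (X.basicOpen_le f)).op ((kernel.ι π).app U t) = 0 := by
      have hnat : (kernel.ι π).app (X.basicOpen f) ((kernel π).presheaf.map (homOfLE (X.basicOpen_le f)).op t) =
          M.presheaf.map (homOfLE (X.basicOpen_le f)).op ((kernel.ι π).app U t) :=
        congr($((kernel.ι π).mapPresheaf.naturality (homOfLE (X.basicOpen_le f)).op) t)
      rw [← hnat, ht, map_zero]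
    obtain ⟨n, hn⟩ := QCoh.exists_pow_smul_eq_zero hM hU f _ h1
    exact ⟨n, (kernel_sections π U).1 (by rw [Scheme.Modules.Hom.app_smul, hn, map_zero])⟩

theorem isCoh_strictTransform [IsLocallyNoetherian X] (I : X.IdealSheafData) {X' : Scheme.{u}} (b : X' ⟶ X)
    (hb : BlowUp.IsBlowUp b I) (F : X.Modules) (hF : Coh.IsCoh F) (G : X'.Modules)
    (π : (Scheme.Modules.pullback b).obj F ⟶ G) (hG : BlowUp.IsStrictTransform b I F G π) : Coh.IsCoh G := by
  have hI : BlowUp.IsFiniteTypeIdeal I := fun U => by
    haveI := IsLocallyNoetherian.component_noetherian U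
    exact (I.ideal U).fg_of_isNoetherianRing
  haveI := BlowUpLib.isProper_of_isBlowUp I hb hI
  haveI : IsLocallyNoetherian X' := LocallyOfFiniteType.isLocallyNoetherian b
  haveI := hG.1
  have hM := ZClosLib.isCoh_pullback b hF
  have hK := isQCoh_kernel_of_torsion _ hM.1 π hG.2
  refine Algz7.isCoh_of_epi π hM ((QCoh.isQCoh_iff_iso ?_).1 (QCoh.isQCoh_cokernel hK hM.1 (kernel.ι π)))
  exact (cokernelIsCokernel _).coconePointUniqueUpToIso
    (Abelian.epiIsCokernelOfKernel (KernelFork.ofι (kernel.ι π) (kernel.condition π)) (kernelIsKernel π))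

end Groth.Agent.StrictTransCoh
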