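import Groth.Agent.StrictTransCoh.Main
import Groth.Agent.QCoh.LocFree
import Groth.Agent.QCoh.Stalk
import Groth.Agent.PinchMod.Sheaf
import Mathlib.RingTheory.Flat.Localization
import Mathlib.RingTheory.Regular.Flat

/-! Strict transforms of bundles are the pullbacks. -/

set_option autoImplicit false
set_option linter.style.haveILetI false
set_option linter.unusedSectionVars false
set_option backward.isDefEq.respectTransparency false

universe u

open CategoryTheory CategoryTheory.Limits AlgebraicGeometry Opposite TopologicalSpace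

namespace Groth.Agent.StrictTransCoh

variable {X : Scheme.{u}}

theorem eq_zero_of_killed (E : X.IdealSheafData) (hE : BlowUp.IsEffCartierIdeal E) {M : X.Modules}
    (hM : FlatMod.IsFinLocFree M) (V : X.affineOpens) (m : Γ(M, V.1)) (hm : BlowUp.KilledByPowerNear E M V m) :
    m = 0 := by
  obtain ⟨k, hk⟩ := hm
  refine TopCat.Presheaf.section_ext (⟨M.presheaf, M.isSheaf⟩ : TopCat.Sheaf Ab.{u} X.toPresheafedSpace.carrier)
    V.1 m 0 fun x hx => ?_
  rw [map_zero]
  obtain ⟨U, hxU, f, hf, hfI⟩ := hE x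
  obtain ⟨g₁, g₂, hg, hxg⟩ := exists_basicOpen_le_affine_inter V.2 U.2 x ⟨hx, hxU⟩
  have hxW : x ∈ X.basicOpen g₂ := hg ▸ hxg
  haveI : Module.Free (X.presheaf.stalk x) (M.presheaf.stalk x) := QCoh.free_stalk_of_isFinLocFree hM x
  letI : Algebra Γ(X, U.1) (X.presheaf.stalk x) := (X.presheaf.germ U.1 x hxU).hom.toAlgebra
  haveI : IsLocalization.AtPrime (X.presheaf.stalk x) (U.2.primeIdealOf ⟨x, hxU⟩).asIdeal :=
    U.2.isLocalization_stalk ⟨x, hxU⟩
  haveI : Module.Flat Γ(X, U.1) (X.presheaf.stalk x) :=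
    IsLocalization.flat (X.presheaf.stalk x) (U.2.primeIdealOf ⟨x, hxU⟩).asIdeal.primeCompl
  have hr : IsSMulRegular (X.presheaf.stalk x) (f ^ k) :=
    Module.Flat.isSMulRegular_of_nonZeroDivisors (pow_mem hf k)
  have hr' : IsSMulRegular (M.presheaf.stalk x) (X.presheaf.germ U.1 x hxU (f ^ k)) := by
    have h0 : IsSMulRegular (X.presheaf.stalk x) (X.presheaf.germ U.1 x hxU (f ^ k)) := fun a b h => hr (by
      show (f ^ k) • a = (f ^ k) • b
      rw [Algebra.smul_def, Algebra.smul_def]; exact h)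
    let e := Module.Free.chooseBasis (X.presheaf.stalk x) (M.presheaf.stalk x)
    intro a b h
    apply e.repr.injective
    ext i
    refine h0 ?_
    have := congrArg (fun t => e.repr t i) h
    simpa using this
  refine hr' ?_
  show _ • _ = _ • (0 : M.presheaf.stalk x)
  rw [smul_zero]
  let W : X.affineOpens := X.affineBasicOpen g₁
  have hW : X.affineBasicOpen g₂ = W := Subtype.ext hg.symm
  let resU : Γ(X, U.1) →+* Γ(X, X.basicOpen g₂) := (X.presheaf.map (homOfLE (X.basicOpen_le g₂)).op).hom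
  have hfW : resU (f ^ k) ∈ (E ^ k).ideal (X.affineBasicOpen g₂) := by
    rw [← (E ^ k).map_ideal_basicOpen U g₂]
    refine Ideal.mem_map_of_mem _ ?_
    rw [Scheme.IdealSheafData.ideal_pow, Pi.pow_apply, hfI, Ideal.span_singleton_pow]
    exact Ideal.mem_span_singleton_self _
  have hgen : ∀ (W' : X.affineOpens), W' = W → ∀ (hxW' : x ∈ W'.1) (a : Γ(X, W'.1)), a ∈ (E ^ k).ideal W' →
      X.presheaf.germ W'.1 x hxW' a • M.presheaf.germ V.1 x hx m = 0 := by
    rintro _ rfl hxW' a ha
    replace ha : a ∈ ((E ^ k).ideal V).map (X.presheaf.map (homOfLE (X.basicOpen_le g₁)).op).hom := by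
      rw [(E ^ k).map_ideal_basicOpen V g₁]; exact ha
    induction ha using Submodule.span_induction with
    | mem a ha =>
      obtain ⟨b, hb, rfl⟩ := ha
      show X.presheaf.germ W.1 x hxW' (X.presheaf.map (homOfLE (X.basicOpen_le g₁)).op b) • _ = 0
      rw [show X.presheaf.germ W.1 x hxW' (X.presheaf.map (homOfLE (X.basicOpen_le g₁)).op b) = X.presheaf.germ V.1 x hx b from
        X.presheaf.germ_res_apply (homOfLE (X.basicOpen_le g₁)) x hxW' b, ← QCoh.germ_smul', hk b hb, map_zero]
    | zero => rw [map_zero, zero_smul]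
    | add a b _ _ ha hb => rw [map_add, add_smul, ha, hb, add_zero]
    | smul c a _ ha => rw [smul_eq_mul, map_mul, mul_smul, ha, smul_zero]
  have := hgen _ hW hxW _ hfW
  rwa [show X.presheaf.germ (X.affineBasicOpen g₂).1 x hxW (resU (f ^ k)) = X.presheaf.germ U.1 x hxU (f ^ k) from
    X.presheaf.germ_res_apply (homOfLE (X.basicOpen_le g₂)) x hxW (f ^ k)] at this

theorem isIso_strictTransform [IsLocallyNoetherian X] (I : X.IdealSheafData) {X' : Scheme.{u}} (b : X' ⟶ X)
    (hb : BlowUp.IsBlowUp b I) (F : X.Modules) (hF : FlatMod.IsFinLocFree F) (G : X'.Modules)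
    (π : (Scheme.Modules.pullback b).obj F ⟶ G) (hG : BlowUp.IsStrictTransform b I F G π) :
    IsIso π ∧ FlatMod.IsFinLocFree G := by
  have hM : FlatMod.IsFinLocFree ((Scheme.Modules.pullback b).obj F) := KFlatLib.isFinLocFree_pullback b hF
  haveI := hG.1
  have hzero : kernel.ι π = 0 := by
    refine Scheme.Modules.hom_ext _ _ fun U => ?_
    ext s
    show (kernel.ι π).app U s = 0
    choose W hW hxW hle using fun x : U => exists_isAffineOpen_mem_and_subset (x := x.1) (U := U) x.2
    refine TopCat.Sheaf.eq_of_locally_eq'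
      (⟨((Scheme.Modules.pullback b).obj F).presheaf, ((Scheme.Modules.pullback b).obj F).isSheaf⟩ :
        TopCat.Sheaf Ab.{u} X'.toPresheafedSpace.carrier) W U (fun x => homOfLE (hle x))
      (fun x hx => Opens.mem_iSup.2 ⟨⟨x, hx⟩, hxW ⟨x, hx⟩⟩) _ _ fun x => ?_
    show ((Scheme.Modules.pullback b).obj F).presheaf.map (homOfLE (hle x)).op ((kernel.ι π).app U s) =
      ((Scheme.Modules.pullback b).obj F).presheaf.map (homOfLE (hle x)).op 0
    rw [map_zero, show ((Scheme.Modules.pullback b).obj F).presheaf.map (homOfLE (hle x)).op ((kernel.ι π).app U s) =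
      (kernel.ι π).app (W x) ((kernel π).presheaf.map (homOfLE (hle x)).op s) from
      (congr($((kernel.ι π).mapPresheaf.naturality (homOfLE (hle x)).op) s)).symm]
    refine eq_zero_of_killed _ hb.1 hM ⟨W x, hW x⟩ _ ((hG.2 ⟨W x, hW x⟩ _).1 ?_)
    exact congrArg (fun φ => Scheme.Modules.Hom.app φ (W x) _) (kernel.condition π)
  haveI : Mono π := Preadditive.mono_of_kernel_zero hzero
  haveI : IsIso π := isIso_of_mono_of_epi π
  refine ⟨‹_›, fun x => ?_⟩
  obtain ⟨U, n, hx, ⟨e⟩⟩ := hM x
  exact ⟨U, n, hx, ⟨(Scheme.Modules.restrictFunctor U.ι).mapIso (asIso π).symm ≪≫ e⟩⟩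

end Groth.Agent.StrictTransCoh
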